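import Cfsg.Agent.Lib.TransvUniq.M24Fin.Main

/-! The Mathieu branch from a copy of that group containing the centraliser. -/

set_option autoImplicit false

namespace Cfsg.Agent.TransvUniq.M24Fin

open Cfsg.Agent.HeUniq.Model Cfsg.Agent.HeUniq.Fus

/-- The group is the copy. -/
theorem iso_of_copy {G : Type*} [Group G] [Finite G] {t : G} (F : Frame G t) (hm : mask F = 115)
    (h : ∃ H : Subgroup G, (∀ g : G, g * t = t * g → g ∈ H) ∧ Nonempty (↥H ≃* Cfsg.M24)) :
    Nonempty (G ≃* Cfsg.M24) := by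
  obtain ⟨H, hc, ⟨e⟩⟩ := h
  exact ⟨(Subgroup.topEquiv.symm.trans (MulEquiv.subgroupCongr (eq_top F hm H hc ⟨e⟩).symm)).trans e⟩

end Cfsg.Agent.TransvUniq.M24Fin
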