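import Cfsg.Agent.Lib.HeUniq.Fus.Classes

/-!
The certificate that the centralisers of the three other classes lie inside, in the pattern of the Mathieu
group: two rounds of dihedral subgroups on codes.
-/

set_option autoImplicit false
set_option maxRecDepth 100000

namespace Cfsg.Agent.TransvUniq.M24Fin

open Cfsg.Agent.HeUniq.Model Cfsg.Agent.HeUniq.Fus

/-- the code is in the class of the central involution, for the Mathieu pattern -/
def zB (a : ℕ) : Bool := Nat.blt (cls a) 8 && (115 : ℕ).testBit (cls a)

/-- the classes along the translates by a list -/
def patB (S : List ℕ) (a : ℕ) : List Bool := S.map fun e => zB (mC a e)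

/-- the code commutes with a list -/
def commB (S : List ℕ) (a : ℕ) : Bool := S.all fun e => Nat.beq (mC a e) (mC e a)

/-- a possible central involution of a dihedral subgroup -/
def badB (S : List ℕ) (w i : ℕ) : Bool :=
  (patB S (mC zC i) == patB S zC &&
      (!(S.any fun e => Nat.beq e i) || patB S (mC w i) == patB S w)) ||
    patB S (mC zC i) == patB S w

/-- an involution of the table is harmless or in the list -/
def oneB (S : List ℕ) (w : ℕ) (nxt : List ℕ) (a : ℕ) : Bool :=
  !commB S a || (patB S a).any id || !badB S w a || nxt.any fun b => Nat.beq b a

/-- membership of a code -/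
def memB (a : ℕ) : Bool := Nat.blt (idxC a) 21504 && Nat.beq (cd (idxC a)) a

/-- one round -/
def stepB (S : List ℕ) (w : ℕ) (nxt : List ℕ) : Bool :=
  (S.all fun e => memB e) && memB w && zB w && commB S w && !(patB S w == patB S zC) &&
    allB (fun j => oneB S w nxt (ivCode j)) 575

/-- for a class: the conjugate used and the second round -/
def certRow : ℕ → ℕ × List (ℕ × ℕ)
  | 2 => (16857345, [(17070155, 16847115), (17070161, 16847115), (17371915, 16857345), (17398539, 16847115),
      (17398545, 16847115)])
  | 3 => (16847105, [(16847131, 16847105), (16857361, 16847105), (17053777, 16847105), (17053787, 16847105),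
      (17070161, 16847105), (17371915, 16847105), (17398539, 16847105), (17398545, 16847105)])
  | _ => (17043525, [(17043669, 17174593), (17044177, 17174593), (17174609, 17043525), (17174613, 17043525),
      (17174737, 17043525), (17174741, 17043525), (17698885, 17043525), (17698897, 17043525), (17699525, 17043525),
      (17699537, 17043525)])

/-- the first list -/
def first (k : ℕ) : List ℕ := [oneC, repC k]

/-- the second list -/
def second (k i : ℕ) : List ℕ := [oneC, repC k, i, mC i (repC k)]

/-- the two rounds of a class -/
def classB (k : ℕ) : Bool :=
  stepB (first k) (certRow k).1 ((certRow k).2.map Prod.fst) &&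
    (certRow k).2.all fun p => stepB (second k p.1) p.2 []

theorem class2 : classB 2 = true := by decide +kernel

theorem class3 : classB 3 = true := by decide +kernel

theorem class7 : classB 7 = true := by decide +kernel

theorem bits : (115 : ℕ).testBit 2 = false ∧
    (∀ k < 8, (115 : ℕ).testBit k = false → k = 2 ∨ k = 3 ∨ k = 7) := by decide

end Cfsg.Agent.TransvUniq.M24Fin
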