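import Cfsg.Agent.Lib.TransvUniq.M24Fin.Defs
import Cfsg.Agent.Lib.TransvUniq.He.Main
import Cfsg.Agent.Lib.TransvUniq.Assemble.Main

/-!
In the pattern of the Mathieu group, a copy of that group containing the centraliser of the involution is the
whole group.
-/

set_option autoImplicit false
set_option maxRecDepth 100000
set_option linter.unusedSectionVars false
set_option linter.style.haveILetI false

namespace Cfsg.Agent.TransvUniq.M24Fin

open Cfsg.Agent.HeUniq Cfsg.Agent.HeUniq.Model Cfsg.Agent.HeUniq.Fus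

variable {G : Type*} [Group G]

theorem zt_conj_iff {t y : G} (g : G) : ZT t (g * y * g⁻¹) ↔ ZT t y := by
  refine ⟨fun h => ?_, fun h => h.conj g⟩
  have := h.conj g⁻¹
  rwa [inv_inv, show g⁻¹ * (g * y * g⁻¹) * g = y by group] at this

theorem zt_iff {t : G} (F : Frame G t) (hm : mask F = 115) {a : ℕ} (ha : Model.InC a) :
    ZT t (F.f a) ↔ zB a = true := by
  rw [zB, Bool.and_eq_true, Nat.blt_eq]
  constructor
  · intro h
    have hsq := ZT.sq (sq_t F) h
    have hc : cls a < 8 := cls_lt ha (F.inj (ha.mul ha) inC_one (by rw [F.mul ha ha, hsq, F.one])) fun e => by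
      obtain ⟨g, hg⟩ := h
      rw [e, F.one] at hg
      exact t_ne_one F (conj_eq_one_iff.1 hg)
    exact ⟨hc, hm ▸ (conj_iff F hc).1 (isConj_iff.2 h)⟩
  · rintro ⟨hc, hb⟩
    exact isConj_iff.1 ((conj_iff F hc).2 (hm ▸ hb))

theorem memB_inC {a : ℕ} (h : memB a = true) : Model.InC a := by
  simp only [memB, Bool.and_eq_true, Nat.blt_eq, Nat.beq_eq] at h
  exact ⟨_, h.1, h.2⟩

theorem exists_entry {a : ℕ} (h : cls a < 8) : ∃ j < 575, ivCode j = a := by
  refine ⟨pos a, rep_cd.pos_lt a, ?_⟩
  unfold cls at h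
  cases hb : Nat.beq (ivCode (pos a)) a
  · rw [hb] at h; simp at h
  · exact Nat.eq_of_beq_eq_true hb

theorem pat_iff {t : G} (F : Frame G t) (hm : mask F = 115) {S : List ℕ} (hS : ∀ e ∈ S, Model.InC e)
    {a b : ℕ} (ha : Model.InC a) (hb : Model.InC b) :
    patB S a = patB S b ↔ ∀ e ∈ S, (ZT t (F.f a * F.f e) ↔ ZT t (F.f b * F.f e)) := by
  simp only [patB, List.map_inj_left]
  refine forall₂_congr fun e he => ?_
  rw [← F.mul ha (hS e he), ← F.mul hb (hS e he), zt_iff F hm (ha.mul (hS e he)), zt_iff F hm (hb.mul (hS e he)),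
    Bool.eq_iff_iff]

variable [Finite G]

/-- The involution of a cyclic group is unique. -/
theorem invol_unique {d i i' : G} (hi : i ∈ Subgroup.zpowers d) (hi' : i' ∈ Subgroup.zpowers d) (h : i * i = 1)
    (h' : i' * i' = 1) (h1 : i ≠ 1) (h1' : i' ≠ 1) : i = i' := by
  classical
  have hn := orderOf_pos d
  have key : ∀ {y : G}, y ∈ Subgroup.zpowers d → y * y = 1 → y ≠ 1 →
      ∃ k, 2 * k = orderOf d ∧ d ^ k = y := by
    intro y hy hyy hy1
    obtain ⟨k, hk, rfl⟩ := Finset.mem_image.1
      (((isOfFinOrder_of_finite d).mem_zpowers_iff_mem_range_orderOf).1 hy)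
    rw [Finset.mem_range] at hk
    refine ⟨k, ?_, rfl⟩
    rw [← pow_add] at hyy
    obtain ⟨c, hc⟩ := orderOf_dvd_of_pow_eq_one hyy
    rcases k with _ | k
    · exact absurd (pow_zero d) hy1
    rcases c with _ | _ | c
    · omega
    · omega
    · exfalso
      have : orderOf d * 2 ≤ orderOf d * (c + 1 + 1) := Nat.mul_le_mul_left _ (by omega)
      omega
  obtain ⟨k, hk, rfl⟩ := key hi h h1
  obtain ⟨k', hk', rfl⟩ := key hi' h' h1'
  rw [show k = k' by omega]

set_option maxHeartbeats 1000000 in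
/-- One round: an element outside centralising the list gives one centralising one more involution. -/
theorem step {t : G} (F : Frame G t) (hm : mask F = 115) {H : Subgroup G} (C : Ctrl H t) {S : List ℕ} {w : ℕ}
    {nxt : List ℕ} (h : stepB S w nxt = true) {x : G} (hx : x ∉ H) (hxS : ∀ e ∈ S, Commute x (F.f e)) :
    ∃ a ∈ nxt, ∃ q : G, q ∉ H ∧ Commute q (F.f a) ∧ ∀ e ∈ S, Commute q (F.f e) := by
  classical
  simp only [stepB, Bool.and_eq_true, List.all_eq_true, Bool.not_eq_true', beq_eq_false_iff_ne] at h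
  obtain ⟨⟨⟨⟨⟨hS', hwC⟩, hwz⟩, hwS⟩, hpat⟩, hall⟩ := h
  have hS : ∀ e ∈ S, Model.InC e := fun e he => memB_inC (hS' e he)
  have hw := memB_inC hwC
  simp only [commB, List.all_eq_true, Nat.beq_eq] at hwS
  set v := F.f w with hv
  have hvZ : ZT t v := (zt_iff F hm hw).2 hwz
  have hvH : v ∈ H := C.cent v (F.cent hw)
  have hvS : ∀ e ∈ S, Commute v (F.f e) := fun e he => by
    show F.f w * F.f e = F.f e * F.f w
    rw [← F.mul hw (hS e he), ← F.mul (hS e he) hw, hwS e he]
  have htS : ∀ e ∈ S, Commute (F.f e) t := fun e he => F.cent (hS e he)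
  set q := x * v * x⁻¹ with hq
  have hqH : q ∉ H := fun h' => hx (C.mem_of_conj hvZ hvH h')
  have hqZ : ZT t q := hvZ.conj x
  have hqS : ∀ e ∈ S, Commute q (F.f e) := fun e he =>
    ((hxS e he).mul_left (hvS e he)).mul_left (hxS e he).inv_left
  have hqv : ∀ y : G, Commute x y → (ZT t (q * y) ↔ ZT t (v * y)) := fun y hy => by
    rw [← zt_conj_iff (t := t) x (y := v * y), show x * (v * y) * x⁻¹ = q * y by
      rw [hq, mul_assoc (x * v) x⁻¹ y, (hy.inv_left).eq]; group]
  -- patterns along conjugations centralising the list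
  have hconj : ∀ {s a b : G}, (∀ c, Commute c t → Commute c q → Commute c s) → s * a * s⁻¹ = b →
      ∀ e ∈ S, (ZT t (a * F.f e) ↔ ZT t (b * F.f e)) := fun {s a b} hs hab e he => by
    rw [← zt_conj_iff (t := t) s (y := a * F.f e), ← conj_mul, hab,
      show s * F.f e * s⁻¹ = F.f e by
        rw [← (hs _ (htS e he) (hqS e he).symm).eq, mul_inv_cancel_right]]
  rcases He.dihedral C.zz (hqZ.sq C.zz) with ⟨-, e0, he0, heq⟩ |
    ⟨i, hii, hi1, hti, hqi, hcom, hiz, hcase⟩
  · refine absurd ((pat_iff F hm hS hw inC_z).2 fun e he => ?_) hpat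
    rw [F.fz, ← hqv _ (hxS e he)]
    exact hconj he0 heq e he
  obtain ⟨a, ha, hai, hka⟩ : ∃ l < 21504, F.f (cd l) = i ∧ cls (cd l) < 8 :=
    He.involution_code F hii hi1 hti.symm
  obtain ⟨j, hj, hje⟩ := exists_entry hka
  have haC := inC_cd ha
  have hiH : i ∈ H := C.cent i hti.eq.symm
  have hiS : ∀ e ∈ S, Commute i (F.f e) := fun e he => (hcom _ (htS e he) (hqS e he).symm).symm
  have hone := allB_spec hall j hj
  rw [hje] at hone
  simp only [oneB, Bool.or_eq_true, Bool.not_eq_true', List.any_eq_true, Nat.beq_eq] at hone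
  rcases hone with ((h1 | h1) | h1) | h1
  · exfalso
    rw [← Bool.not_eq_true, commB, List.all_eq_true] at h1
    refine h1 fun e he => ?_
    rw [Nat.beq_eq]
    refine F.inj (haC.mul (hS e he)) ((hS e he).mul haC) ?_
    rw [F.mul haC (hS e he), F.mul (hS e he) haC, hai, (hiS e he).eq]
  · exfalso
    obtain ⟨b, hb, hbt⟩ := h1
    simp only [patB, List.mem_map] at hb
    obtain ⟨e, he, rfl⟩ := hb
    rw [id_eq] at hbt
    have hz : ZT t (i * F.f e) := by
      rw [← hai, ← F.mul haC (hS e he)]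
      exact (zt_iff F hm (haC.mul (hS e he))).2 hbt
    exact hqH (C.cent_le hz (mul_mem hiH (C.cent _ (htS e he).eq)) (hqi.mul_right (hqS e he)).eq)
  · exfalso
    have hB : (∀ e ∈ S, (ZT t (v * F.f e) ↔ ZT t (t * i * F.f e))) → False := fun hb => by
      have : badB S w (cd a) = true := by
        rw [badB, Bool.or_eq_true, beq_iff_eq (a := patB S (mC zC (cd a))) (b := patB S w)]
        refine Or.inr ((pat_iff F hm hS (inC_z.mul haC) hw).2 fun e he => ?_)
        rw [F.mul inC_z haC, F.fz, hai]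
        exact (hb e he).symm
      rw [this] at h1; exact Bool.noConfusion h1
    rcases hcase with ⟨s, hs, hsp⟩ | ⟨e0, he0, heq⟩
    · -- the other side
      rcases He.dihedral (hqZ.sq C.zz) C.zz with ⟨ho, -⟩ |
        ⟨i', hii', hi1', -, hti', hcom', hiz', hcase'⟩
      · have hinv : q * t = (t * q)⁻¹ := by
          rw [mul_inv_rev, inv_eq_of_mul_eq_one_right C.zz, inv_eq_of_mul_eq_one_right (hqZ.sq C.zz)]
        rw [hinv, orderOf_inv] at ho
        obtain ⟨n, hn⟩ := Subgroup.mem_zpowers_iff.1 hiz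
        have h2 : orderOf i ∣ orderOf (t * q) := orderOf_dvd_of_mem_zpowers hiz
        rw [orderOf_eq_prime (by rw [pow_two]; exact hii) hi1] at h2
        exact (Nat.not_even_iff_odd.2 ho) (even_iff_two_dvd.2 h2)
      have hinv : q * t = (t * q)⁻¹ := by
        rw [mul_inv_rev, inv_eq_of_mul_eq_one_right C.zz, inv_eq_of_mul_eq_one_right (hqZ.sq C.zz)]
      rw [hinv, Subgroup.zpowers_inv] at hiz'
      obtain rfl : i = i' := invol_unique hiz hiz' hii hii' hi1 hi1'
      have hA : patB S (mC zC (cd a)) = patB S zC := (pat_iff F hm hS (inC_z.mul haC) inC_z).2 fun e he => by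
        rw [F.mul inC_z haC, F.fz, hai]
        exact (hconj hs hsp e he).symm
      rcases hcase' with ⟨s', hs', hsq⟩ | ⟨e0, he0, heq⟩
      · have : badB S w (cd a) = true := by
          rw [badB, Bool.or_eq_true, Bool.and_eq_true, Bool.or_eq_true, Bool.not_eq_true',
            beq_iff_eq (a := patB S (mC zC (cd a))) (b := patB S zC), beq_iff_eq (a := patB S (mC w (cd a)))]
          refine Or.inl ⟨hA, ?_⟩
          by_cases hmem : (S.any fun e => Nat.beq e (cd a)) = true
          swap
          · exact Or.inl (Bool.eq_false_iff.2 hmem)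
          refine Or.inr ((pat_iff F hm hS (hw.mul haC) hw).2 fun e he => ?_)
          obtain ⟨b, hb, hbe⟩ := List.any_eq_true.1 hmem
          rw [Nat.beq_eq] at hbe
          have hxi : Commute x i := hai ▸ hbe ▸ hxS b hb
          rw [F.mul hw haC, hai, ← hv, ← hqv _ (hxS e he), mul_assoc v i, ← hqv _ (hxi.mul_right (hxS e he)),
            ← mul_assoc]
          exact (hconj (fun c h1 h2 => hs' c h2 h1) hsq e he).symm
        rw [this] at h1; exact Bool.noConfusion h1
      · refine hB fun e he => ?_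
        rw [← hqv _ (hxS e he)]
        have hei : Commute e0 i := (he0 i hqi.symm hti.symm).symm
        refine ((hconj (s := e0) (a := t * i) (b := q) (fun c h1 h2 => he0 c h2 h1) ?_ e he)).symm
        rw [← conj_mul, heq, hei.eq, mul_inv_cancel_right, mul_assoc, hii, mul_one]
    · refine hB fun e he => ?_
      rw [← hqv _ (hxS e he)]
      exact hconj he0 heq e he
  · obtain ⟨b, hb, hbe⟩ := h1
    exact ⟨b, hb, q, hqH, by rw [hbe, hai]; exact hqi, hqS⟩

/-- The centraliser of a class representative is inside. -/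
theorem cent_rep {t : G} (F : Frame G t) (hm : mask F = 115) {H : Subgroup G} (C : Ctrl H t) {k : ℕ}
    (hk : classB k = true) {x : G} (hx : Commute x (F.f (repC k))) : x ∈ H := by
  by_contra hxH
  simp only [classB, Bool.and_eq_true, List.all_eq_true] at hk
  obtain ⟨a, ha, q, hqH, hqa, hqS⟩ := step F hm C hk.1 hxH (fun e he => by
    simp only [first, List.mem_cons, List.not_mem_nil, or_false] at he
    rcases he with rfl | rfl
    · rw [F.one]; exact Commute.one_right x
    · exact hx)
  obtain ⟨p, hp, rfl⟩ := List.mem_map.1 ha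
  have hck := hk.2 p hp
  have hS : ∀ e ∈ second k p.1, Model.InC e := by
    simp only [stepB, Bool.and_eq_true, List.all_eq_true] at hck
    exact fun e he => memB_inC (hck.1.1.1.1.1 e he)
  obtain ⟨b, hb, -⟩ := step F hm C hck hqH (fun e he => by
    simp only [second, List.mem_cons, List.not_mem_nil, or_false] at he
    rcases he with rfl | rfl | rfl | rfl
    · rw [F.one]; exact Commute.one_right q
    · exact hqS _ (by simp [first])
    · exact hqa
    · rw [F.mul (hS _ (by simp [second])) (hS _ (by simp [second]))]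
      exact hqa.mul_right (hqS _ (by simp [first])))
  exact absurd hb List.not_mem_nil

set_option maxHeartbeats 1000000 in
/-- The copy is the whole group. -/
theorem eq_top {t : G} (F : Frame G t) (hm : mask F = 115) (H : Subgroup G)
    (hc : ∀ g : G, g * t = t * g → g ∈ H) (hH : Nonempty (↥H ≃* Cfsg.M24)) : H = ⊤ := by
  classical
  obtain ⟨e⟩ := hH
  haveI := Cfsg.Agent.Golay.isSimpleGroup_M24
  haveI : IsSimpleGroup H := e.isSimpleGroup
  have hcard : Nat.card H = 244823040 := (Nat.card_congr e.toEquiv).trans Cfsg.Agent.Golay.card_M24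
  have htH : t ∈ H := hc t rfl
  let f' : ℕ → H := fun a => if h : Model.InC a then ⟨F.f a, hc _ (F.cent h)⟩ else 1
  have fv : ∀ {a}, Model.InC a → (f' a : G) = F.f a := fun {a} ha => by simp only [f', dif_pos ha]
  let F' : Frame H ⟨t, htH⟩ :=
    { f := f'
      mul := fun ha hb => Subtype.ext (by rw [Subgroup.coe_mul, fv ha, fv hb, fv (ha.mul hb), F.mul ha hb])
      inj := fun ha hb h => F.inj ha hb (by rw [← fv ha, ← fv hb, h])
      cent := fun ha => Subtype.ext (by rw [Subgroup.coe_mul, Subgroup.coe_mul, fv ha, F.cent ha])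
      surj := fun g hg => by
        obtain ⟨a, ha, he⟩ := F.surj g (congrArg Subtype.val hg)
        exact ⟨a, ha, Subtype.ext ((fv ha).trans he)⟩
      fz := Subtype.ext ((fv inC_z).trans F.fz) }
  have hsub : ∀ k < 8, (mask F').testBit k = true → (mask F).testBit k = true := fun k hk h => by
    obtain ⟨g, hg⟩ := isConj_iff.1 ((testBit_mask F' hk).1 h)
    refine (testBit_mask F hk).2 (isConj_iff.2 ⟨(g : G), ?_⟩)
    have := congrArg Subtype.val hg
    simp only [Subgroup.coe_mul, Subgroup.coe_inv] at this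
    rw [this]; exact fv (rep_cd hk).1
  have ht2 : orderOf (⟨t, htH⟩ : H) = 2 :=
    orderOf_eq_prime (Subtype.ext (by rw [Subgroup.coe_pow, pow_two]; exact sq_t F))
      fun h => t_ne_one F (congrArg Subtype.val h)
  have hm' : mask F' = 115 := by
    have tw : ∀ m m' : ℕ, mask F' = m →
        (∀ j < 8, m'.testBit j = m.testBit (([0, 3, 2, 1, 6, 5, 4, 7] : List ℕ).getD j 0)) →
        m' < 256 → mask F'.twist = m' := by
      intro m m' e hb hlt
      refine Nat.eq_of_testBit_eq fun j => ?_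
      rcases Nat.lt_or_ge j 8 with hj | hj
      · rw [testBit_twist F' hj, e, hb j hj]
      · rw [Nat.testBit_lt_two_pow ((mask_lt F'.twist).trans_le (Nat.pow_le_pow_right two_pos hj)),
          Nat.testBit_lt_two_pow (hlt.trans_le (Nat.pow_le_pow_right two_pos hj))]
    have hl := mask_cases F'
    simp only [List.mem_cons, List.not_mem_nil, or_false] at hl
    rcases hl with h | h | h | h | h | h | h
    · exfalso
      refine AlperinRankTwo.no_isolated (Assemble.not_comm_of_equiv _ ht2 (L52.card_cent F')) _ ⟨ht2, fun g hg => ?_⟩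
      exact Assemble.eq_of_32 F' h hg.symm
    · exfalso
      obtain ⟨v, hv, ⟨f⟩⟩ := L52.exists_stab_iso F'.twist (tw _ 96 h (by decide) (by norm_num))
      exact Assemble.not_simple_stab hv f.symm.isSimpleGroup
    · exfalso
      obtain ⟨v, hv, ⟨f⟩⟩ := L52.exists_stab_iso F' h
      exact Assemble.not_simple_stab hv f.symm.isSimpleGroup
    · exfalso
      obtain ⟨f, hf, -, htop⟩ := L52.exists_iso F' h
      have := Nat.card_congr
        ((MonoidHom.ofInjective hf).trans ((MulEquiv.subgroupCongr htop).trans Subgroup.topEquiv)).toEquiv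
      rw [L5.card_S5, hcard] at this
      omega
    · exact h
    · have := hsub 3 (by norm_num) (by rw [h]; decide)
      rw [hm] at this; exact absurd this (by decide)
    · have := hsub 3 (by norm_num) (by rw [h]; decide)
      rw [hm] at this; exact absurd this (by decide)
  have hodd : ¬ 2 ∣ (Subgroup.centralizer ({(⟨t, htH⟩ : H)} : Set H)).index := by
    have h := (Subgroup.centralizer ({(⟨t, htH⟩ : H)} : Set H)).card_mul_index
    rw [L52.card_cent F', hcard] at h
    omega
  have into : ∀ y ∈ H, y * y = 1 → y ≠ 1 →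
      ∃ h ∈ H, ∃ i < 21504, F.f (cd i) = h⁻¹ * y * h ∧ cls (cd i) < 8 := by
    intro y hy hyy hy1
    obtain ⟨h, hh, hcm⟩ := He.conj_into_cent htH hodd hy hyy
    have e2 : h⁻¹ * y * h * (h⁻¹ * y * h) = 1 := by
      rw [show h⁻¹ * y * h * (h⁻¹ * y * h) = h⁻¹ * (y * y) * h by group, hyy, mul_one, inv_mul_cancel]
    refine ⟨h, hh, He.involution_code F e2 (fun e => hy1 ?_) hcm⟩
    calc y = h * (h⁻¹ * y * h) * h⁻¹ := by group
      _ = 1 := by rw [e, mul_one, mul_inv_cancel]
  have C : Ctrl H t := by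
    refine ⟨sq_t F, hc, fun x hx => ?_⟩
    obtain ⟨h, hh, i, hi, he', hk⟩ := into _ hx (ZT.sq (sq_t F) ⟨x, rfl⟩)
      (fun e => t_ne_one F (conj_eq_one_iff.1 e))
    have hz : ZT t (F.f (cd i)) := ⟨h⁻¹ * x, by rw [he']; group⟩
    have hb : (mask F').testBit (cls (cd i)) = true := by
      rw [hm', ← hm]; exact (conj_iff F hk).1 (isConj_iff.2 hz)
    obtain ⟨⟨k, hkH⟩, hk'⟩ := isConj_iff.1 ((conj_iff F' hk).2 hb)
    have hk'' : k * t * k⁻¹ = F.f (cd i) := (congrArg Subtype.val hk').trans (fv (inC_cd hi))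
    refine ⟨h * k, mul_mem hh hkH, ?_⟩
    calc h * k * t * (h * k)⁻¹ = h * (k * t * k⁻¹) * h⁻¹ := by group
      _ = x * t * x⁻¹ := by rw [hk'', he']; group
  have h2 := (rep_cd (show 2 < 8 by norm_num))
  obtain ⟨-, hsq2, hne2, -⟩ := cls_spec (h2.2.trans_lt (show 2 < 8 by norm_num))
  refine C.eq_top (u := F.f (repC 2)) (hc _ (F.cent h2.1)) (by rw [← F.mul h2.1 h2.1, hsq2, F.one])
    (fun e => hne2 (F.inj h2.1 inC_one (e.trans F.one.symm))) (fun hz => ?_) ?_
  · have := (zt_iff F hm h2.1).1 hz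
    rw [zB, h2.2, bits.1, Bool.and_false] at this
    exact Bool.noConfusion this
  intro y hy hyy hy1 hyn g hgy
  obtain ⟨h, hh, i, hi, he', hk⟩ := into y hy hyy hy1
  obtain ⟨v, hvt, hv⟩ := to_rep F hk
  have hkc : cls (cd i) = 2 ∨ cls (cd i) = 3 ∨ cls (cd i) = 7 := by
    refine bits.2 _ hk (Bool.eq_false_iff.2 fun hb => hyn ?_)
    have := (zt_iff F hm (inC_cd hi)).2 (by rw [zB, hb, Bool.and_true, Nat.blt_eq]; exact hk)
    rwa [he', show h⁻¹ * y * h = h⁻¹ * y * h⁻¹⁻¹ by rw [inv_inv], zt_conj_iff] at this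
  have hcls : classB (cls (cd i)) = true := by
    rcases hkc with e | e | e <;> rw [e]
    exacts [class2, class3, class7]
  have hmem : (v * h⁻¹) * g * (v * h⁻¹)⁻¹ ∈ H := by
    refine cent_rep F hm C hcls ?_
    rw [← hv, he', show v * (h⁻¹ * y * h) * v⁻¹ = v * h⁻¹ * y * (v * h⁻¹)⁻¹ by group]
    show _ * _ = _ * _
    rw [conj_mul, conj_mul, hgy]
  have hvh : v * h⁻¹ ∈ H := mul_mem (hc v hvt) (inv_mem hh)
  have := mul_mem (mul_mem (inv_mem hvh) hmem) hvh
  rwa [show (v * h⁻¹)⁻¹ * (v * h⁻¹ * g * (v * h⁻¹)⁻¹) * (v * h⁻¹) = g by group] at this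

end Cfsg.Agent.TransvUniq.M24Fin
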